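import Cfsg.Agent.Lib.Char.FreeInvolution.Regular
import Cfsg.Agent.Lib.Fusion.Cores
import Cfsg.Agent.S0205

/-!
# Perfect groups with an elementary abelian Sylow 2-subgroup

A perfect group has no proper solvable quotient, and if its automizer acts freely on an elementary
abelian Sylow 2-subgroup of order at least eight then all its involutions are conjugate.
-/

set_option autoImplicit false
set_option linter.style.haveILetI false

namespace Cfsg.Agent.Pyramidal

open Cfsg Cfsg.Agent.Char.FreeInv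

universe u

variable {G : Type u} [Group G]

theorem eq_top_of_perfect (hperf : commutator G = ⊤) (N : Subgroup G) [N.Normal]
    (hsol : Group.IsSolvable (G ⧸ N)) : N = ⊤ := by
  have hder : ∀ i, derivedSeries G i = ⊤ := by
    intro i
    induction i with
    | zero => rfl
    | succ i ih => rw [derivedSeries_succ, ih]; exact hperf
  obtain ⟨k, hk⟩ := (Group.isSolvable_def (G ⧸ N)).1 hsol
  have h := map_derivedSeries_eq (f := QuotientGroup.mk' N) (QuotientGroup.mk'_surjective N) k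
  rw [hder, hk, Subgroup.map_eq_bot_iff, QuotientGroup.ker_mk'] at h
  exact top_le_iff.1 h

variable [Finite G]

theorem pResidual_eq_top (hperf : commutator G = ⊤) : pResidual 2 G = ⊤ := by
  haveI : Fact (Nat.Prime 2) := ⟨Nat.prime_two⟩
  haveI := (Fusion.isPGroup_quotient_pResidual (p := 2) (G := G)).isNilpotent
  exact eq_top_of_perfect hperf _ inferInstance

theorem not_hnpc (hperf : commutator G = ⊤) (h2 : 2 ∣ Nat.card G) : ¬ HasNormalPComplement 2 G := by
  intro h
  have h1 := Fusion.hnpc_iff.1 h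
  rw [pResidual_eq_top hperf, Subgroup.card_top] at h1
  exact (Nat.Prime.coprime_iff_not_dvd Nat.prime_two).1 h1.symm h2

/-- Free automizer, elementary Sylow subgroup, perfect group: one class of involutions. -/
theorem isConj_of_free (hperf : commutator G = ⊤) {P : Sylow 2 G}
    (hab : IsMulCommutative (P : Subgroup G)) (hel : ∀ u ∈ (P : Subgroup G), u * u = 1)
    (h8 : 8 ≤ Nat.card (P : Subgroup G)) (hfree : ∀ u : (P : Subgroup G), u ≠ 1 → IsFree P u)
    {a b : G} (ha : orderOf a = 2) (hb : orderOf b = 2) : IsConj a b := by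
  classical
  haveI : Fact (Nat.Prime 2) := ⟨Nat.prime_two⟩
  obtain ⟨W, hWodd, hNW, hcent⟩ := exists_signalizer hab hel h8 hfree
  set N := Subgroup.normalizer ((P : Subgroup G) : Set G) with hN
  have hPN : (P : Subgroup G) ≤ N := Subgroup.le_normalizer
  have h2P : 2 ∣ Nat.card (P : Subgroup G) := by
    obtain ⟨i, hi⟩ := IsPGroup.iff_card.mp P.isPGroup'
    rcases i with _ | i
    · omega
    · exact ⟨2 ^ i, by rw [hi, pow_succ, mul_comm]⟩
  by_cases htop : W ⊔ N = ⊤
  · exfalso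
    haveI : W.Normal := Subgroup.normalizer_eq_top_iff.mp (top_le_iff.mp
      (htop ▸ sup_le Subgroup.le_normalizer hNW))
    set f := QuotientGroup.mk' W
    have hf : Function.Surjective f := QuotientGroup.mk'_surjective W
    have hNtop : N.map f = ⊤ := by
      have h := congrArg (Subgroup.map f) htop
      rwa [Subgroup.map_sup, Subgroup.map_top_of_surjective f hf,
        (Subgroup.map_eq_bot_iff W).2 (QuotientGroup.ker_mk' W).ge, bot_sup_eq] at h
    haveI hPn : ((P : Subgroup G).map f).Normal := Subgroup.normalizer_eq_top_iff.mp (top_le_iff.mp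
      (hNtop ▸ Subgroup.le_normalizer_map (H := (P : Subgroup G)) f))
    haveI : Finite (G ⧸ W) := inferInstance
    have hodd : Odd (Nat.card ((G ⧸ W) ⧸ (P : Subgroup G).map f)) := by
      rw [← Subgroup.index_eq_card, ← Nat.not_even_iff_odd, even_iff_two_dvd]
      exact fun h => P.not_dvd_index (h.trans (Subgroup.index_map_dvd _ hf))
    have hperfQ : commutator (G ⧸ W) = ⊤ := by
      rw [commutator_def, ← Subgroup.map_top_of_surjective f hf, ← Subgroup.map_commutator, ← commutator_def, hperf]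
    have hPtop : (P : Subgroup G).map f = ⊤ := eq_top_of_perfect hperfQ _ (S0205.result hodd)
    have hc : ∀ x y : G ⧸ W, x * y = y * x := by
      intro x y
      obtain ⟨p, hp, rfl⟩ := (hPtop ▸ Subgroup.mem_top x : x ∈ (P : Subgroup G).map f)
      obtain ⟨q, hq, rfl⟩ := (hPtop ▸ Subgroup.mem_top y : y ∈ (P : Subgroup G).map f)
      rw [← map_mul, ← map_mul, comm_of_isMulCommutative hab hp hq]
    have hW : W = ⊤ := eq_top_of_perfect hperf W (Group.isSolvable_of_comm hc)
    exact hWodd (hW ▸ h2P.trans (Subgroup.card_dvd_of_le le_top))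
  set H := W ⊔ N with hH
  have hcentH : ∀ u ∈ (P : Subgroup G), u ≠ 1 → Subgroup.centralizer ({u} : Set G) ≤ H :=
    fun u hu hu1 => (hcent u hu hu1).trans (sup_le_sup_left hPN W)
  have hPH : (P : Subgroup G) ≤ H := hPN.trans le_sup_right
  have hinv : ∀ t : G, t ∈ H → orderOf t = 2 →
      ∃ g ∈ H, g * t * g⁻¹ ∈ (P : Subgroup G) ∧ g * t * g⁻¹ ≠ 1 := by
    intro t htH ht
    obtain ⟨S, hS⟩ := (IsPGroup.of_card (p := 2) (n := 1) (G := Subgroup.zpowers (⟨t, htH⟩ : H))
      (by rw [Nat.card_zpowers, Subgroup.orderOf_mk, ht, pow_one])).exists_le_sylow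
    obtain ⟨g, hg⟩ := MulAction.exists_smul_eq H S (P.subtype hPH)
    have h1 : g * ⟨t, htH⟩ * g⁻¹ ∈ (P.subtype hPH : Subgroup H) := by
      rw [← hg]
      exact ⟨_, hS (Subgroup.mem_zpowers _), rfl⟩
    exact ⟨g, g.2, h1, fun e => by
      rw [conj_eq_one_iff] at e
      rw [e, orderOf_one] at ht
      omega⟩
  have hse : IsStronglyEmbedded H := by
    refine ⟨htop, even_iff_two_dvd.mpr (h2P.trans (Subgroup.card_dvd_of_le hPH)), fun g hg => ?_⟩
    rw [← Nat.not_even_iff_odd, even_iff_two_dvd]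
    intro h2
    obtain ⟨⟨t, htm⟩, ht⟩ := exists_prime_orderOf_dvd_card' 2 h2
    rw [Subgroup.orderOf_mk] at ht
    obtain ⟨htH, s, hs, hst⟩ := htm
    have hst' : g * s * g⁻¹ = t := hst
    have hso : orderOf s = 2 := by
      rw [← ht, ← hst', ← MulAut.conj_apply, MulEquiv.orderOf_eq]
    obtain ⟨g₁, hg₁, hu, hu1⟩ := hinv t htH ht
    obtain ⟨g₂, hg₂, hv, hv1⟩ := hinv s hs hso
    have hc : IsConj (g₂ * s * g₂⁻¹) (g₁ * t * g₁⁻¹) := isConj_iff.mpr ⟨g₁ * g * g₂⁻¹, by
      rw [← hst']; group⟩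
    obtain ⟨α, hα, e⟩ := exists_aut_of_isConj hab (u := ⟨_, hv⟩) (v := ⟨_, hu⟩) hc
    obtain ⟨⟨m, hm⟩, rfl⟩ := hα
    have e' : m * (g₂ * s * g₂⁻¹) * m⁻¹ = g₁ * t * g₁⁻¹ := congrArg Subtype.val e
    rw [← hst'] at e'
    have hcm : g₂ * g⁻¹ * g₁⁻¹ * m ∈ Subgroup.centralizer ({g₂ * s * g₂⁻¹} : Set G) := by
      refine Subgroup.mem_centralizer_singleton_iff.mpr (mul_inv_eq_iff_eq_mul.mp ?_)
      calc g₂ * g⁻¹ * g₁⁻¹ * m * (g₂ * s * g₂⁻¹) * (g₂ * g⁻¹ * g₁⁻¹ * m)⁻¹
          = g₂ * g⁻¹ * g₁⁻¹ * (m * (g₂ * s * g₂⁻¹) * m⁻¹) * (g₂ * g⁻¹ * g₁⁻¹)⁻¹ := by group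
        _ = g₂ * s * g₂⁻¹ := by rw [e']; group
    have hH1 := hcentH _ hv hv1 hcm
    have hgi : g⁻¹ ∈ H := by
      have h3 := H.mul_mem (H.mul_mem (H.inv_mem hg₂) hH1)
        (H.mul_mem (H.inv_mem (Subgroup.mem_sup_right hm : m ∈ H)) hg₁)
      rwa [show g₂⁻¹ * (g₂ * g⁻¹ * g₁⁻¹ * m) * (m⁻¹ * g₁) = g⁻¹ by group] at h3
    exact hg (by simpa using H.inv_mem hgi)
  exact Fusion.SEPairs.involutions_conj hse ha hb

end Cfsg.Agent.Pyramidal
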