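import Mathlib

/-!
# Anisotropic quadratic maps with equal fibres

`Q : V → E` is quadratic and vanishes only at zero, and its non-zero fibres have equally many
elements.  The character sums of `c ∘ Q` bound `|V|` and forbid orthogonal decompositions.
-/

set_option autoImplicit false

namespace Cfsg.Agent.Pyramidal.Quad

open Module Finset

/-- The sign of an element of `ZMod 2`. -/
def sgn (a : ZMod 2) : ℤ := if a = 0 then 1 else -1

theorem sgn_add (a b : ZMod 2) : sgn (a + b) = sgn a * sgn b := by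
  revert a b; decide

theorem sgn_mul_self (a : ZMod 2) : sgn a * sgn a = 1 := by
  revert a; decide

theorem sgn_zero : sgn 0 = 1 := by decide

theorem sgn_one : sgn 1 = -1 := by decide

theorem eq_one_of_ne_zero {a : ZMod 2} (h : a ≠ 0) : a = 1 := by
  revert a; decide

variable {V E : Type*} [AddCommGroup V] [Fintype V] [DecidableEq V]

theorem sum_hom {f : V → ZMod 2} (hf : ∀ u v, f (u + v) = f u + f v) :
    (Fintype.card V : ℤ) ∣ ∑ v, sgn (f v) := by
  by_cases h : ∀ v, f v = 0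
  · simp [h, sgn_zero]
  push Not at h
  obtain ⟨w, hw⟩ := h
  have h1 : ∑ v, sgn (f v) = -∑ v, sgn (f v) := by
    conv_lhs => rw [← Equiv.sum_comp (Equiv.addRight w) fun v => sgn (f v)]
    rw [← Finset.sum_neg_distrib]
    refine Finset.sum_congr rfl fun v _ => ?_
    simp [hf, sgn_add, eq_one_of_ne_zero hw, sgn_one]
  rw [show (∑ v, sgn (f v)) = 0 by omega]
  exact dvd_zero _

theorem card_dvd_sum_sq {f : V → ZMod 2} {B : V → V → ZMod 2}
    (hf : ∀ u v, f (u + v) = f u + f v + B u v) (hB : ∀ u u' v, B (u + u') v = B u v + B u' v) :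
    (Fintype.card V : ℤ) ∣ (∑ v, sgn (f v)) ^ 2 := by
  have e : (∑ v, sgn (f v)) ^ 2 = ∑ d, sgn (f d) * ∑ u, sgn (B u d) := by
    rw [sq, Finset.sum_mul]
    calc ∑ u, sgn (f u) * ∑ v, sgn (f v)
        = ∑ u, ∑ d, sgn (f d) * sgn (B u d) := by
          refine Finset.sum_congr rfl fun u _ => ?_
          rw [Finset.mul_sum, ← Equiv.sum_comp (Equiv.addLeft u) fun v => sgn (f u) * sgn (f v)]
          refine Finset.sum_congr rfl fun d _ => ?_
          simp only [Equiv.coe_addLeft, hf, sgn_add]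
          calc sgn (f u) * (sgn (f u) * sgn (f d) * sgn (B u d))
              = sgn (f u) * sgn (f u) * (sgn (f d) * sgn (B u d)) := by ring
            _ = sgn (f d) * sgn (B u d) := by rw [sgn_mul_self, one_mul]
      _ = ∑ d, sgn (f d) * ∑ u, sgn (B u d) := by
          rw [Finset.sum_comm]
          exact Finset.sum_congr rfl fun d _ => (Finset.mul_sum _ _ _).symm
  rw [e]
  exact Finset.dvd_sum fun d _ => dvd_mul_of_dvd_right (sum_hom fun u v => hB u v d) _

variable [AddCommGroup E] [Module (ZMod 2) E] [Fintype E] [DecidableEq E]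

theorem sum_dual [Fintype (Dual (ZMod 2) E)] (e : E) :
    ∑ c : Dual (ZMod 2) E, sgn (c e) = if e = 0 then (Fintype.card E : ℤ) else 0 := by
  split_ifs with h
  · subst h
    simp only [map_zero, sgn_zero, Finset.sum_const, Finset.card_univ, nsmul_eq_mul, mul_one, Nat.cast_inj]
    rw [← Nat.card_eq_fintype_card, ← Nat.card_eq_fintype_card,
      Module.natCard_eq_pow_finrank (K := ZMod 2), Module.natCard_eq_pow_finrank (K := ZMod 2) (V := E),
      Subspace.dual_finrank_eq]
  · obtain ⟨c0, hc0⟩ : ∃ c0 : Dual (ZMod 2) E, c0 e ≠ 0 := by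
      by_contra hall
      push Not at hall
      exact h ((Module.forall_dual_apply_eq_zero_iff (ZMod 2) e).1 hall)
    have h1 : ∑ c : Dual (ZMod 2) E, sgn (c e) = -∑ c : Dual (ZMod 2) E, sgn (c e) := by
      conv_lhs => rw [← Equiv.sum_comp (Equiv.addRight c0) fun c : Dual (ZMod 2) E => sgn (c e)]
      rw [← Finset.sum_neg_distrib]
      refine Finset.sum_congr rfl fun c _ => ?_
      simp [sgn_add, eq_one_of_ne_zero hc0, sgn_one]
    omega

theorem sum_apply {c : Dual (ZMod 2) E} (hc : c ≠ 0) : ∑ e : E, sgn (c e) = 0 := by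
  obtain ⟨w, hw⟩ : ∃ w, c w ≠ 0 := by
    by_contra hall
    push Not at hall
    exact hc (LinearMap.ext hall)
  have h1 : ∑ e : E, sgn (c e) = -∑ e : E, sgn (c e) := by
    conv_lhs => rw [← Equiv.sum_comp (Equiv.addRight w) fun e : E => sgn (c e)]
    rw [← Finset.sum_neg_distrib]
    refine Finset.sum_congr rfl fun v _ => ?_
    simp [sgn_add, eq_one_of_ne_zero hw, sgn_one]
  omega

/-- The data of an anisotropic quadratic map with equal fibres. -/
structure Aniso (Q : V → E) (k : ℕ) : Prop where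
  add_left : ∀ u u' v, Q (u + u' + v) - Q (u + u') - Q v =
    (Q (u + v) - Q u - Q v) + (Q (u' + v) - Q u' - Q v)
  eq_zero : ∀ v, Q v = 0 ↔ v = 0
  fibre : ∀ e, e ≠ 0 → (Finset.univ.filter fun v => Q v = e).card = k

namespace Aniso

variable {Q : V → E} {k : ℕ} (A : Aniso Q k)
include A

theorem card_dvd_comp (c : Dual (ZMod 2) E) :
    (Fintype.card V : ℤ) ∣ (∑ v, sgn (c (Q v))) ^ 2 := by
  refine card_dvd_sum_sq (B := fun u v => c (Q (u + v) - Q u - Q v)) (fun u v => ?_) fun u u' v => ?_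
  · rw [← map_add, ← map_add]
    congr 1
    abel
  · rw [← map_add, A.add_left]

theorem card_eq : Fintype.card V = 1 + k * (Fintype.card E - 1) := by
  rw [← Finset.card_univ, Finset.card_eq_sum_card_fiberwise (f := Q) (t := Finset.univ)
    (fun v _ => Finset.mem_univ _), ← Finset.add_sum_erase _ _ (Finset.mem_univ (0 : E)),
    Finset.sum_congr rfl (fun e he => A.fibre e (Finset.ne_of_mem_erase he)), Finset.sum_const,
    Finset.card_erase_of_mem (Finset.mem_univ _), Finset.card_univ, smul_eq_mul,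
    show (Finset.univ.filter fun v => Q v = 0) = {0} by ext v; simp [A.eq_zero], Finset.card_singleton]
  ring

theorem sum_eq {c : Dual (ZMod 2) E} (hc : c ≠ 0) : ∑ v, sgn (c (Q v)) = 1 - k := by
  rw [← Finset.sum_fiberwise Finset.univ Q fun v => sgn (c (Q v))]
  have h1 : ∀ e : E, (∑ v ∈ Finset.univ.filter (fun v => Q v = e), sgn (c (Q v))) =
      ((Finset.univ.filter fun v => Q v = e).card : ℤ) * sgn (c e) := fun e => by
    rw [Finset.sum_congr rfl (fun v hv => by rw [(Finset.mem_filter.1 hv).2]), Finset.sum_const,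
      nsmul_eq_mul]
  rw [Finset.sum_congr rfl (fun e _ => h1 e), ← Finset.add_sum_erase _ _ (Finset.mem_univ (0 : E)),
    show (Finset.univ.filter fun v => Q v = 0) = {0} by ext v; simp [A.eq_zero], Finset.card_singleton,
    map_zero, sgn_zero, Finset.sum_congr rfl (fun e he => by rw [A.fibre e (Finset.ne_of_mem_erase he)]),
    ← Finset.mul_sum]
  have h2 := sum_apply hc
  rw [← Finset.add_sum_erase _ _ (Finset.mem_univ (0 : E)), map_zero, sgn_zero] at h2
  rw [show (∑ e ∈ Finset.univ.erase (0 : E), sgn (c e)) = -1 by omega]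
  push_cast
  ring

end Aniso

theorem two_pow_odd_inj {a b : ℕ} {x y : ℤ} (hx : Odd x) (hy : Odd y)
    (h : 2 ^ a * x = 2 ^ b * y) : a = b := by
  have key : ∀ {a b : ℕ} {x y : ℤ}, Odd x → 2 ^ a * x = 2 ^ b * y → b ≤ a := by
    intro a b x y hx h
    by_contra hlt
    have h1 : (2 : ℤ) ∣ x := by
      obtain ⟨j, hj⟩ : ∃ j, b = a + (j + 1) := ⟨b - a - 1, by omega⟩
      rw [hj, pow_add, mul_assoc] at h
      rw [mul_left_cancel₀ (pow_ne_zero _ (by norm_num)) h]
      exact ⟨2 ^ j * y, by ring⟩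
    exact (Int.not_even_iff_odd.2 hx) (even_iff_two_dvd.2 h1)
  exact le_antisymm (key hy h.symm) (key hx h)

theorem odd_pow_sub_one {m : ℕ} (hm : 0 < m) : Odd ((2 : ℤ) ^ m - 1) := by
  obtain ⟨j, rfl⟩ : ∃ j, m = j + 1 := ⟨m - 1, by omega⟩
  exact ⟨2 ^ j - 1, by ring⟩

/-- The dimension is `n` or `2n`. -/
theorem dim_cases {Q : V → E} {k n m : ℕ} (A : Aniso Q k) (hE : Fintype.card E = 2 ^ n) (hn : 0 < n)
    (hV : Fintype.card V = 2 ^ m) (hm : 0 < m) :
    (m = n ∧ k = 1) ∨ (m = 2 * n ∧ k = 2 ^ n + 1) := by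
  haveI : Finite (Dual (ZMod 2) E) := Finite.of_injective _ DFunLike.coe_injective
  haveI : Fintype (Dual (ZMod 2) E) := Fintype.ofFinite _
  have hc := A.card_eq
  rw [hV, hE] at hc
  have hcz : (2 : ℤ) ^ m = 1 + k * (2 ^ n - 1) := by
    have := congrArg (Nat.cast : ℕ → ℤ) hc
    push_cast [Nat.cast_sub Nat.one_le_two_pow] at this
    exact this
  have hn2 : 2 ≤ 2 ^ n := le_trans (by norm_num) (Nat.pow_le_pow_right (by norm_num) hn)
  have hnm : n ≤ m := by
    by_contra hlt
    have h1 : 2 ^ m < 2 ^ n := Nat.pow_lt_pow_right (by norm_num) (by omega)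
    have h2 : k = 0 := by
      by_contra hk
      have : 2 ^ n - 1 ≤ k * (2 ^ n - 1) := Nat.le_mul_of_pos_left _ (by omega)
      omega
    subst h2
    have h3 : 2 ^ m = 1 := by simpa using hc
    have h4 := Nat.one_lt_two_pow hm.ne'
    omega
  obtain ⟨c, hc0⟩ : ∃ c : Dual (ZMod 2) E, c ≠ 0 := by
    obtain ⟨e, he⟩ : ∃ e : E, e ≠ 0 := Fintype.exists_ne_of_one_lt_card (by omega) 0
    by_contra hall
    push Not at hall
    exact he ((Module.forall_dual_apply_eq_zero_iff (ZMod 2) e).1 fun c => by rw [hall c]; rfl)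
  have hd := A.card_dvd_comp c
  rw [A.sum_eq hc0, hV] at hd
  obtain ⟨r, rfl⟩ := Nat.exists_eq_add_of_le hnm
  have hle : r ≤ n := by
    rcases Nat.eq_zero_or_pos r with h0 | hr
    · omega
    obtain ⟨z, hz⟩ := hd
    push_cast at hz
    by_contra hrn
    have e1 : (2 : ℤ) ^ (n + r) * (z * (2 ^ n - 1) ^ 2) = 2 ^ (2 * n) * (2 ^ r - 1) ^ 2 := by
      rw [← mul_assoc, ← hz]
      have : (1 - (k : ℤ)) * (2 ^ n - 1) = -(2 ^ n * (2 ^ r - 1)) := by
        rw [pow_add] at hcz
        linear_combination hcz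
      rw [← mul_pow, this, two_mul, pow_add]
      ring
    obtain ⟨j, hj⟩ : ∃ j, n + r = 2 * n + (j + 1) := ⟨r - n - 1, by omega⟩
    rw [hj, pow_add, mul_assoc] at e1
    have e2 := mul_left_cancel₀ (pow_ne_zero _ (by norm_num)) e1
    refine Int.not_even_iff_odd.2 ((odd_pow_sub_one hr).pow (n := 2)) ?_
    rw [← e2]
    exact even_iff_two_dvd.2 ⟨2 ^ j * (z * (2 ^ n - 1) ^ 2), by ring⟩
  rcases Nat.eq_zero_or_pos r with rfl | hr
  · refine Or.inl ⟨add_zero _, ?_⟩
    rw [add_zero] at hc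
    have : (k : ℕ) * (2 ^ n - 1) = 1 * (2 ^ n - 1) := by omega
    exact Nat.eq_of_mul_eq_mul_right (by omega) this
  · refine Or.inr ?_
    have hdvd : (2 ^ n - 1) ∣ 2 ^ r - 1 := by
      have h1 : (2 ^ n - 1) ∣ 2 ^ (n + r) - 1 := ⟨k, by rw [mul_comm]; omega⟩
      have h2 : 2 ^ (n + r) - 1 = (2 ^ n - 1) * 2 ^ r + (2 ^ r - 1) := by
        have h3 := Nat.one_le_two_pow (n := r)
        rw [pow_add, Nat.sub_mul, one_mul]
        have h4 : 2 ^ r ≤ 2 ^ n * 2 ^ r := Nat.le_mul_of_pos_left _ (by omega)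
        omega
      rw [h2] at h1
      exact (Nat.dvd_add_right (dvd_mul_right _ _)).1 h1
    have hrn : r = n := by
      by_contra hne
      have h5 : 2 ^ r < 2 ^ n := Nat.pow_lt_pow_right (by norm_num) (by omega)
      have h6 : 2 ≤ 2 ^ r := le_trans (by norm_num) (Nat.pow_le_pow_right (by norm_num) hr)
      have := Nat.le_of_dvd (by omega) hdvd
      omega
    subst hrn
    refine ⟨by ring, ?_⟩
    have h7 : (k : ℤ) * (2 ^ r - 1) = (2 ^ r + 1) * (2 ^ r - 1) := by
      rw [pow_add] at hcz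
      linear_combination -hcz
    have h8 := mul_right_cancel₀ (by
      have : (2 : ℤ) ≤ 2 ^ r := by exact_mod_cast hn2
      omega) h7
    exact_mod_cast h8

/-- In dimension `2n` there is no non-trivial orthogonal decomposition. -/
theorem no_split {Q : V → E} {n : ℕ} (A : Aniso Q (2 ^ n + 1)) (hE : Fintype.card E = 2 ^ n)
    (hn : 0 < n) (hV : Fintype.card V = 2 ^ (2 * n)) (F W : AddSubgroup V) (hd : ∀ v ∈ F, v ∈ W → v = 0)
    (hcard : Nat.card F * Nat.card W = Fintype.card V)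
    (horth : ∀ f ∈ F, ∀ w ∈ W, Q (f + w) = Q f + Q w) : F = ⊥ ∨ W = ⊥ := by
  classical
  haveI : Finite (Dual (ZMod 2) E) := Finite.of_injective _ DFunLike.coe_injective
  haveI : Fintype (Dual (ZMod 2) E) := Fintype.ofFinite _
  let S : AddSubgroup V → Dual (ZMod 2) E → ℤ := fun U c => ∑ u : U, sgn (c (Q u))
  have hprod : ∀ c : Dual (ZMod 2) E, S F c * S W c = ∑ v, sgn (c (Q v)) := by
    intro c
    have hinj : Function.Injective (fun p : F × W => (p.1 : V) + p.2) := by
      rintro ⟨f, w⟩ ⟨f', w'⟩ h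
      have h1 : (f : V) - f' = (w' : V) - w := by
        rw [sub_eq_sub_iff_add_eq_add, add_comm (w' : V)]
        exact h
      have h2 := hd _ (sub_mem f.2 f'.2) (by rw [h1]; exact sub_mem w'.2 w.2)
      have h3 : (f : V) = f' := sub_eq_zero.1 h2
      rw [h2, eq_comm, sub_eq_zero] at h1
      exact Prod.ext (Subtype.ext h3) (Subtype.ext h1.symm)
    have hbij := (Fintype.bijective_iff_injective_and_card _).2 ⟨hinj, by
      rw [Fintype.card_prod, ← Nat.card_eq_fintype_card, ← Nat.card_eq_fintype_card, hcard]⟩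
    rw [← (Equiv.ofBijective _ hbij).sum_comp fun v => sgn (c (Q v)), Fintype.sum_prod_type]
    simp only [S, Equiv.ofBijective_apply]
    rw [Finset.sum_mul_sum]
    refine Finset.sum_congr rfl fun f _ => Finset.sum_congr rfl fun w _ => ?_
    rw [horth _ f.2 _ w.2, map_add, sgn_add]
  have hdvd : ∀ (U : AddSubgroup V) (c : Dual (ZMod 2) E), (Nat.card U : ℤ) ∣ S U c ^ 2 := by
    intro U c
    rw [Nat.card_eq_fintype_card]
    refine card_dvd_sum_sq (B := fun u v : U => c (Q (u + v : V) - Q u - Q v)) (fun u v => ?_)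
      fun u u' v => ?_
    · rw [← map_add, ← map_add, AddSubgroup.coe_add]
      congr 1
      abel
    · rw [← map_add, AddSubgroup.coe_add, A.add_left]
  have hsq : ∀ c : Dual (ZMod 2) E, c ≠ 0 → S F c ^ 2 = Nat.card F := by
    intro c hc
    have h1 : S F c * S W c = -2 ^ n := by
      rw [hprod, A.sum_eq hc]
      push_cast
      ring
    obtain ⟨x, hx⟩ := hdvd F c
    obtain ⟨y, hy⟩ := hdvd W c
    have hFW : (Nat.card F : ℤ) * Nat.card W = 2 ^ (2 * n) := by
      rw [← Nat.cast_mul, hcard, hV]; push_cast; rfl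
    have h2 : (2 : ℤ) ^ (2 * n) * (x * y) = 2 ^ (2 * n) * 1 := by
      calc (2 : ℤ) ^ (2 * n) * (x * y) = Nat.card F * x * (Nat.card W * y) := by rw [← hFW]; ring
        _ = (S F c * S W c) ^ 2 := by rw [← hx, ← hy]; ring
        _ = 2 ^ (2 * n) * 1 := by rw [h1, neg_sq, ← pow_mul, mul_comm n 2, mul_one]
    have hxy := mul_left_cancel₀ (pow_ne_zero _ (by norm_num)) h2
    have hx0 : 0 ≤ x := by
      have h3 : (0 : ℤ) < Nat.card F := by exact_mod_cast Nat.card_pos
      have h4 : 0 ≤ (Nat.card F : ℤ) * x := hx ▸ sq_nonneg _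
      exact (mul_nonneg_iff_of_pos_left h3).1 h4
    rw [hx, Int.eq_one_of_mul_eq_one_right hx0 hxy, mul_one]
  obtain ⟨f, hf2, hf⟩ := (Nat.dvd_prime_pow Nat.prime_two).1
    (show Nat.card F ∣ 2 ^ (2 * n) from hV ▸ hcard ▸ dvd_mul_right _ _)
  obtain ⟨w, -, hw⟩ := (Nat.dvd_prime_pow Nat.prime_two).1
    (show Nat.card W ∣ 2 ^ (2 * n) from hV ▸ hcard ▸ dvd_mul_left _ _)
  rw [hf, hw, ← pow_add, hV] at hcard
  have hfw := Nat.pow_right_injective le_rfl hcard
  rcases Nat.eq_zero_or_pos f with h0 | hfpos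
  · exact Or.inl (AddSubgroup.eq_bot_of_card_eq F (by rw [hf, h0, pow_zero]))
  rcases Nat.eq_zero_or_pos w with h0 | hwpos
  · exact Or.inr (AddSubgroup.eq_bot_of_card_eq W (by rw [hw, h0, pow_zero]))
  exfalso
  -- summing over all functionals
  have htot : ∑ c : Dual (ZMod 2) E, S F c = 2 ^ n := by
    show ∑ c : Dual (ZMod 2) E, ∑ u : F, sgn (c (Q u)) = _
    rw [Finset.sum_comm, Finset.sum_eq_single (0 : F) (fun u _ hu => ?_) (by simp)]
    · rw [sum_dual, if_pos (show Q ((0 : F) : V) = 0 from (A.eq_zero _).2 rfl), hE]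
      push_cast
      rfl
    · rw [sum_dual, if_neg fun e => hu (Subtype.ext ((A.eq_zero _).1 e))]
  have h00 : S F 0 = 2 ^ f := by
    simp only [S, LinearMap.zero_apply, sgn_zero, Finset.sum_const, Finset.card_univ, nsmul_eq_mul, mul_one]
    rw [← Nat.card_eq_fintype_card, hf]
    push_cast
    rfl
  rw [← Finset.add_sum_erase _ _ (Finset.mem_univ (0 : Dual (ZMod 2) E)), h00] at htot
  obtain ⟨c1, hc1⟩ : ∃ c1 : Dual (ZMod 2) E, c1 ≠ 0 := by
    obtain ⟨e, he⟩ : ∃ e : E, e ≠ 0 := Fintype.exists_ne_of_one_lt_card (by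
      have := Nat.one_lt_two_pow hn.ne'; omega) 0
    by_contra hall
    push Not at hall
    exact he ((Module.forall_dual_apply_eq_zero_iff (ZMod 2) e).1 fun c => by rw [hall c]; rfl)
  set s := S F c1 with hs
  let ε : Dual (ZMod 2) E → ℤ := fun c => if S F c = s then 1 else -1
  have hε : ∀ c, c ≠ 0 → S F c = s * ε c := by
    intro c hc
    simp only [ε]
    split_ifs with h
    · rw [mul_one, h]
    · rcases sq_eq_sq_iff_eq_or_eq_neg.1 ((hsq c hc).trans (hsq c1 hc1).symm) with h' | h'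
      · exact absurd h' h
      · rw [h', mul_neg_one]
  rw [Finset.sum_congr rfl (fun c hc => hε c (Finset.ne_of_mem_erase hc)), ← Finset.mul_sum] at htot
  set o := ∑ c ∈ Finset.univ.erase (0 : Dual (ZMod 2) E), ε c
  have hodd : Odd o := by
    rw [← Int.not_even_iff_odd, even_iff_two_dvd]
    intro h2
    have h3 : ((o : ℤ) : ZMod 2) = 0 := (ZMod.intCast_zmod_eq_zero_iff_dvd o 2).2 h2
    have hone : ∀ c, ((ε c : ℤ) : ZMod 2) = 1 := fun c => by
      simp only [ε]
      split_ifs <;> decide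
    simp only [o, Int.cast_sum, hone, Finset.sum_const, Finset.card_erase_of_mem (Finset.mem_univ _),
      Finset.card_univ, nsmul_eq_mul, mul_one] at h3
    rw [← Nat.card_eq_fintype_card, Module.natCard_eq_pow_finrank (K := ZMod 2), Subspace.dual_finrank_eq,
      ← Module.natCard_eq_pow_finrank (K := ZMod 2), Nat.card_eq_fintype_card, hE,
      ZMod.natCast_eq_zero_iff_even, even_iff_two_dvd] at h3
    have h4 : 2 ∣ 2 ^ n := dvd_pow_self 2 hn.ne'
    have h5 := Nat.one_le_two_pow (n := n)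
    omega
  have hs2 : s ^ 2 = 2 ^ f := by rw [hsq c1 hc1, hf]; push_cast; rfl
  have key : ((2 : ℤ) ^ n - 2 ^ f) ^ 2 = 2 ^ f * o ^ 2 := by
    rw [show (2 : ℤ) ^ n - 2 ^ f = s * o by linarith, mul_pow, hs2]
  rcases lt_trichotomy f n with h | h | h
  · obtain ⟨d, rfl⟩ := Nat.exists_eq_add_of_le h.le
    have := two_pow_odd_inj (a := 2 * f) ((odd_pow_sub_one (show 0 < d by omega)).pow (n := 2))
      (hodd.pow (n := 2)) (by rw [← key, pow_add, two_mul, pow_add]; ring)
    omega
  · subst h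
    rw [sub_self, zero_pow two_ne_zero] at key
    rcases mul_eq_zero.1 key.symm with h | h
    · exact pow_ne_zero _ (by norm_num) h
    · rw [sq_eq_zero_iff] at h
      rw [h] at hodd
      exact absurd hodd (by decide)
  · obtain ⟨d, rfl⟩ := Nat.exists_eq_add_of_le h.le
    have := two_pow_odd_inj (a := 2 * n) ((odd_pow_sub_one (show 0 < d by omega)).pow (n := 2))
      (hodd.pow (n := 2)) (by rw [← key, pow_add, two_mul, pow_add]; ring)
    omega

end Cfsg.Agent.Pyramidal.Quad
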